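import Groth.Agent.Lib.CohBC18.Family
import Groth.Agent.Lib.CohFound.PushFin
import Groth.Agent.Lib.CohFound.HHBridge
import Groth.Agent.Lib.PullBC11.AffineBC
import Groth.Agent.Lib.CohFound.AmpleVan
import Groth.Prelude.Def_CurvBase
import Mathlib.LinearAlgebra.TensorProduct.Basis
import Mathlib.LinearAlgebra.Dimension.Constructions

/-!
# Cohomology and extension of the base field

`k' ⊗_k Hⁿ(X, M) ≅ Hⁿ(X_{k'}, M')` for quasi-coherent `M` on a quasi-compact quasi-separated `X`.
-/

set_option autoImplicit false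
set_option linter.style.haveILetI false
set_option maxHeartbeats 800000
set_option backward.isDefEq.respectTransparency false

universe u

open CategoryTheory Limits AlgebraicGeometry TopologicalSpace Opposite TensorProduct

namespace Groth.Agent.CohBC18

open Groth.Agent.CohFound

variable {k : Type u} [Field k] (X : Scheme.{u}) [X.Over (Spec (CommRingCat.of k))]
  (k' : Type u) [Field k'] [Algebra k k']

/-- Constants of `X`. -/
noncomputable abbrev φk : k →+* Γ(X, ⊤) := Coh.toGlobal (X ↘ Spec (CommRingCat.of k))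

/-- Constants of `X_{k'}`. -/
noncomputable abbrev φk' : k' →+* Γ(Curv2.bc k X k', ⊤) := Coh.toGlobal (Curv2.bcSnd k X k')

theorem appTop_φk (a : k) :
    (Curv2.bcFst k X k').appTop (φk X a) = φk' X k' (algebraMap k k' a) := by
  have h := congrArg Scheme.Hom.appTop (pullback.condition (f := X ↘ Spec (CommRingCat.of k))
    (g := Spec.map (CommRingCat.ofHom (algebraMap k k'))))
  have h' := ConcreteCategory.congr_hom h ((Scheme.ΓSpecIso (CommRingCat.of k)).inv a)
  refine h'.trans ?_
  exact congrArg ((Curv2.bcSnd k X k').appTop) (ConcreteCategory.congr_hom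
    (Scheme.ΓSpecIso_inv_naturality (CommRingCat.ofHom (algebraMap k k'))).symm a)

variable (M : X.Modules)

/-- The pullback to `X_{k'}`. -/
noncomputable abbrev M' : (Curv2.bc k X k').Modules := (Scheme.Modules.pullback (Curv2.bcFst k X k')).obj M

/-- Its direct image. -/
noncomputable abbrev M'' : X.Modules := (Scheme.Modules.pushforward (Curv2.bcFst k X k')).obj (M' (k := k) X k' M)

/-- The action of `a : k'` on the direct image. -/
noncomputable def act (a : k') : (abF X).obj (M'' (k := k) X k' M) ⟶ (abF X).obj (M'' (k := k) X k' M) :=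
  (abFPushIso (Curv2.bcFst k X k') (M' (k := k) X k' M)).hom ≫
    (CohTop.push ((Curv2.bcFst k X k').base : sp (Curv2.bc k X k') ⟶ sp X)).map (gEnd (M' (k := k) X k' M) (φk' X k' a)) ≫
    (abFPushIso (Curv2.bcFst k X k') (M' (k := k) X k' M)).inv

/-- `m ↦ a • (1 ⊗ m)`. -/
noncomputable def psi (a : k') : (abF X).obj M ⟶ (abF X).obj (M'' (k := k) X k' M) :=
  (abF X).map ((Scheme.Modules.pullbackPushforwardAdjunction (Curv2.bcFst k X k')).unit.app M) ≫ act (k := k) X k' M a

theorem psi_app (a : k') (U : X.Opens) (m : Γ(M, U)) :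
    (psi (k := k) X k' M a).hom.app (op U) m =
      (M1.ores (le_top : Curv2.bcFst k X k' ⁻¹ᵁ U ≤ ⊤) (φk' X k' a) •
        M2.pullSec (Curv2.bcFst k X k') M m : Γ(M' (k := k) X k' M, Curv2.bcFst k X k' ⁻¹ᵁ U)) := rfl

/-- Affine opens: sections of the pullback are the extension of scalars. -/
theorem bijective_fam_zero (hM : Coh.IsQCoh M) {B : Type u} (b : Module.Basis B k k') {U : X.Opens}
    (hU : IsAffineOpen U) : Function.Bijective (fam (fun i => psi (k := k) X k' M (b i)) 0 U) := by
  classical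
  let p := Curv2.bcFst k X k'
  let q := X ↘ Spec (CommRingCat.of k)
  let g : Spec (CommRingCat.of k') ⟶ Spec (CommRingCat.of k) := Spec.map (CommRingCat.ofHom (algebraMap k k'))
  have H : IsPullback p (Curv2.bcSnd k X k') q g := IsPullback.of_hasPullback _ _
  haveI : IsAffineHom g := inferInstance
  haveI : IsAffineHom p := MorphismProperty.of_isPullback H.flip inferInstance
  have hW : IsAffineOpen (p ⁻¹ᵁ U) := hU.preimage p
  let N := M' (k := k) X k' M
  haveI : IsIso (((Scheme.Modules.pullbackPushforwardAdjunction p).homEquiv M N).symm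
      ((Scheme.Modules.pullbackPushforwardAdjunction p).unit.app M)) := by
    rw [← Adjunction.homEquiv_id, Equiv.symm_apply_apply]
    infer_instance
  have hη := PullBC11.isBC_of_isIso (N := N)
    (show M ⟶ (Scheme.Modules.pushforward p).obj N from
      (Scheme.Modules.pullbackPushforwardAdjunction p).unit.app M) hM
    (M1.isQCoh_pullback p hM) hU hW le_rfl
  have hpo := FlatH4.isPushout_sections (g := p) (iY := Curv2.bcSnd k X k') (iX := q) (f := g) H
    (US := ⊤) (UT := ⊤) (UX := U) (UY := p ⁻¹ᵁ U) (by simp) (by simp) (by simp)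
    (isAffineOpen_top _) (isAffineOpen_top _) hU
  letI a0 : Algebra k Γ(X, U) := ((M1.ores (le_top : U ≤ ⊤)).hom.comp (φk (k := k) X)).toAlgebra
  letI a1 : Algebra k' Γ(Curv2.bc k X k', p ⁻¹ᵁ U) :=
    ((M1.ores (le_top : p ⁻¹ᵁ U ≤ ⊤)).hom.comp (φk' (k := k) X k')).toAlgebra
  letI a2 : Algebra Γ(X, U) Γ(Curv2.bc k X k', p ⁻¹ᵁ U) := (p.appLE U (p ⁻¹ᵁ U) le_rfl).hom.toAlgebra
  letI a3 : Algebra k Γ(Curv2.bc k X k', p ⁻¹ᵁ U) :=
    ((algebraMap Γ(X, U) Γ(Curv2.bc k X k', p ⁻¹ᵁ U)).comp (algebraMap k Γ(X, U))).toAlgebra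
  haveI : IsScalarTower k Γ(X, U) Γ(Curv2.bc k X k', p ⁻¹ᵁ U) := IsScalarTower.of_algebraMap_eq' rfl
  have hpo' : IsPushout (CommRingCat.ofHom (algebraMap k Γ(X, U))) (CommRingCat.ofHom (algebraMap k k'))
      (CommRingCat.ofHom (algebraMap Γ(X, U) Γ(Curv2.bc k X k', p ⁻¹ᵁ U)))
      (CommRingCat.ofHom (algebraMap k' Γ(Curv2.bc k X k', p ⁻¹ᵁ U))) := by
    refine hpo.of_iso (Scheme.ΓSpecIso (CommRingCat.of k)) (Iso.refl _) (Scheme.ΓSpecIso (CommRingCat.of k'))
      (Iso.refl _) ?_ ?_ ?_ ?_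
    · rw [Iso.refl_hom, Category.comp_id, ← Iso.inv_comp_eq]
      rfl
    · have e : g.appLE ⊤ ⊤ (by simp) = g.appTop := g.appLE_eq_app
      refine (congrArg (· ≫ _) e).trans ?_
      exact Scheme.ΓSpecIso_naturality (CommRingCat.ofHom (algebraMap k k'))
    · rw [Iso.refl_hom, Category.comp_id, Iso.refl_hom, Category.id_comp]
      rfl
    · rw [Iso.refl_hom, Category.comp_id, ← Iso.inv_comp_eq]
      rfl
  haveI : IsScalarTower k k' Γ(Curv2.bc k X k', p ⁻¹ᵁ U) :=
    IsScalarTower.of_algebraMap_eq' (congrArg CommRingCat.Hom.hom hpo'.w)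
  haveI : Algebra.IsPushout k Γ(X, U) k' Γ(Curv2.bc k X k', p ⁻¹ᵁ U) := CommRingCat.isPushout_iff_isPushout.1 hpo'
  haveI : Algebra.IsPushout k k' Γ(X, U) Γ(Curv2.bc k X k', p ⁻¹ᵁ U) := Algebra.IsPushout.symm inferInstance
  letI := PullBC11.baseModule (g := p) N (le_refl (p ⁻¹ᵁ U))
  haveI : IsScalarTower Γ(X, U) Γ(Curv2.bc k X k', p ⁻¹ᵁ U) Γ(N, p ⁻¹ᵁ U) :=
    IsScalarTower.of_algebraMap_smul fun _ _ => rfl
  letI mU : Module k Γ(M, U) := Module.compHom _ (algebraMap k Γ(X, U))
  haveI : IsScalarTower k Γ(X, U) Γ(M, U) := IsScalarTower.of_algebraMap_smul fun _ _ => rfl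
  let cc := Algebra.IsPushout.cancelBaseChange k k' Γ(X, U) Γ(Curv2.bc k X k', p ⁻¹ᵁ U) Γ(M, U)
  let E : k' ⊗[k] Γ(M, U) → Γ(N, p ⁻¹ᵁ U) := fun z => hη.equiv (cc.symm z)
  have hE : Function.Bijective E := hη.equiv.bijective.comp cc.symm.bijective
  have hEt : ∀ (a : k') (m : Γ(M, U)), E (a ⊗ₜ m) = (psi (k := k) X k' M a).hom.app (op U) m := fun a m => by
    rw [psi_app]
    show hη.equiv (cc.symm (a ⊗ₜ m)) = _
    rw [Algebra.IsPushout.cancelBaseChange_symm_tmul]
    exact (hη.equiv_tmul _ m).trans (congrArg (algebraMap k' Γ(Curv2.bc k X k', p ⁻¹ᵁ U) a • ·)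
      (M1.mres_id N (le_refl (p ⁻¹ᵁ U)) (M2.pullSec p M m)))
  let e := (Finsupp.mapRange.addEquiv (ι := B) (hc0 ((abF X).obj M) U)).trans
    (TensorProduct.equivFinsuppOfBasisLeft b (N := Γ(M, U))).symm.toAddEquiv
  have key : ∀ z, hc0 ((abF X).obj (M'' (k := k) X k' M)) U (fam (fun i => psi (k := k) X k' M (b i)) 0 U z) = E (e z) := fun z => by
    induction z using Finsupp.induction_linear with
    | zero => simp only [map_zero, E]
    | add x y hx hy => simp only [map_add, hx, hy, E]
    | single i x =>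
      rw [fam_single, hc0_mp]
      refine (hEt (b i) (hc0 ((abF X).obj M) U x)).symm.trans (congrArg E ?_)
      refine ((TensorProduct.equivFinsuppOfBasisLeft b).eq_symm_apply.2 ?_)
      rw [TensorProduct.equivFinsuppOfBasisLeft_apply_tmul, b.repr_self, Finsupp.mapRange_single, one_smul]
      exact (Finsupp.mapRange_single (hf := map_zero (hc0 ((abF X).obj M) U))).symm
  have hb : Function.Bijective (E ∘ e) := hE.comp e.bijective
  refine ((hc0 ((abF X).obj (M'' (k := k) X k' M)) U).bijective.of_comp_iff' _).1 ?_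
  rw [show (hc0 ((abF X).obj (M'' (k := k) X k' M)) U) ∘ fam (fun i => psi (k := k) X k' M (b i)) 0 U = E ∘ e from funext key]
  exact hb

theorem bijective_fam_bc [CompactSpace X] [QuasiSeparatedSpace X] (hM : Coh.IsQCoh M) {B : Type u}
    (b : Module.Basis B k k') (n : ℕ) : Function.Bijective (fam (fun i => psi (k := k) X k' M (b i)) n ⊤) := by
  haveI : IsAffineHom (Curv2.bcFst k X k') := MorphismProperty.of_isPullback
    (IsPullback.of_hasPullback (X ↘ Spec (CommRingCat.of k))
      (Spec.map (CommRingCat.ofHom (algebraMap k k')))).flip inferInstance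
  refine bijective_fam _ (fun U hU n => ?_) isCompact_univ n
  cases n with
  | zero => exact bijective_fam_zero (k := k) X k' M hM b hU
  | succ n =>
    haveI := hM
    haveI : (M'' (k := k) X k' M).IsQuasicoherent :=
      PushFin12.isQCoh_pushforward _ _ (M1.isQCoh_pullback _ hM)
    haveI := subsingleton_hc_isAffineOpen M hU n
    haveI := subsingleton_hc_isAffineOpen (M'' (k := k) X k' M) hU n
    exact ⟨fun x y _ => Subsingleton.elim _ _, fun y => ⟨0, Subsingleton.elim _ _⟩⟩

/-- Cohomology commutes with extension of the base field. -/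
theorem nonempty_HH_bc [CompactSpace X] [QuasiSeparatedSpace X] (hM : Coh.IsQCoh M) (n : ℕ) :
    letI : (Curv2.bc k X k').Over (Spec (CommRingCat.of k')) := ⟨Curv2.bcSnd k X k'⟩
    Nonempty (k' ⊗[k] Coh.HH X M n ≃ₗ[k'] Coh.HH (Curv2.bc k X k') (M' (k := k) X k' M) n) := by
  letI : (Curv2.bc k X k').Over (Spec (CommRingCat.of k')) := ⟨Curv2.bcSnd k X k'⟩
  let p := Curv2.bcFst k X k'
  haveI : IsAffineHom p := MorphismProperty.of_isPullback
    (IsPullback.of_hasPullback (X ↘ Spec (CommRingCat.of k))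
      (Spec.map (CommRingCat.ofHom (algebraMap k k')))).flip inferInstance
  let N := M' (k := k) X k' M
  let u := (Scheme.Modules.pullbackPushforwardAdjunction p).unit.app M
  obtain ⟨ε, hε⟩ := exists_hc_push_commute (p.base : sp (Curv2.bc k X k') ⟶ sp X) X.isBasis_affineOpens n
    ((abF _).obj N) (pushAcyclic_isAffineHom p N (M1.isQCoh_pullback p hM) n) ⊤
  let T : Hc ((abF X).obj (M'' (k := k) X k' M)) n ⊤ ≃+ Coh.HH (Curv2.bc k X k') N n :=
    ((mpEquiv (abFPushIso p N) n ⊤).trans ε).trans (hhExt N n).symm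
  have hTs : ∀ (r : Γ(Curv2.bc k X k', ⊤)) (α : (abF X).obj (M'' (k := k) X k' M) ⟶ (abF X).obj (M'' (k := k) X k' M)),
      α ≫ (abFPushIso p N).hom = (abFPushIso p N).hom ≫
        (CohTop.push (p.base : sp (Curv2.bc k X k') ⟶ sp X)).map (gEnd N r) →
      ∀ x, hhExt N n (T (mp α n ⊤ x)) = gMul N r n ⊤ (hhExt N n (T x)) := fun r α hα x => by
    refine ((hhExt N n).apply_symm_apply _).trans ?_
    refine (trans_commute (abFPushIso p N) n ⊤ ε α _ (gMul N r n ⊤) hα (hε (gEnd N r)) x).trans ?_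
    exact congrArg (gMul N r n ⊤) ((hhExt N n).apply_symm_apply _).symm
  have hsmul : ∀ (a : k') (x : Coh.HH (Curv2.bc k X k') N n),
      hhExt N n (a • x) = gMul N (φk' X k' a) n ⊤ (hhExt N n x) := fun a x => hExt_map (gEnd N _) n x
  have hTact : ∀ a x, T (mp (act (k := k) X k' M a) n ⊤ x) = a • T x := fun a x => (hhExt N n).injective
    ((hTs (φk' X k' a) _ (by
      simp only [act, Category.assoc]
      exact congrArg ((abFPushIso p N).hom ≫ ·) ((congrArg
        ((CohTop.push (p.base : sp (Curv2.bc k X k') ⟶ sp X)).map (gEnd N (φk' (k := k) X k' a)) ≫ ·)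
        (abFPushIso p N).inv_hom_id).trans (Category.comp_id _))) x).trans
      (hsmul a (T x)).symm)
  letI : Module k (Coh.HH (Curv2.bc k X k') N n) := Module.compHom _ (algebraMap k k')
  haveI : IsScalarTower k k' (Coh.HH (Curv2.bc k X k') N n) := IsScalarTower.of_algebraMap_smul fun _ _ => rfl
  let η : Coh.HH X M n →ₗ[k] Coh.HH (Curv2.bc k X k') N n :=
    { toFun := fun x => T (mp ((abF X).map u) n ⊤ (hhExt M n x))
      map_add' := fun x y => by simp only [map_add]
      map_smul' := fun c x => by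
        show _ = algebraMap k k' c • T (mp ((abF X).map u) n ⊤ (hhExt M n x))
        apply (hhExt N n).injective
        rw [hsmul, ← appTop_φk (k := k)]
        refine Eq.trans (congrArg (fun z => hhExt N n (T (mp ((abF X).map u) n ⊤ z)))
          (hExt_map (gEnd M (φk X c)) n x : hhExt M n (c • x) = gMul M (φk X c) n ⊤ (hhExt M n x))) ?_
        refine Eq.trans (congrArg (fun z => hhExt N n (T z)) ?_)
          (hTs _ (gEnd (M'' (k := k) X k' M) (φk X c)) (abFPushIso_gEnd p N (φk X c)) _)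
        exact (mp_comp _ _ n ⊤ _).symm.trans ((congrArg (fun z => mp z n ⊤ _) (gEnd_natural u (φk X c))).trans
          (mp_comp _ _ n ⊤ _)) }
  classical
  let b := Module.Basis.ofVectorSpace k k'
  let Φ := η.liftBaseChange k'
  let e := (TensorProduct.equivFinsuppOfBasisLeft b (N := Coh.HH X M n)).toAddEquiv.trans
    (Finsupp.mapRange.addEquiv (hhExt M n))
  have key : ∀ z, Φ z = T (fam (fun i => psi (k := k) X k' M (b i)) n ⊤ (e z)) := fun z => by
    obtain ⟨z, rfl⟩ := (TensorProduct.equivFinsuppOfBasisLeft b (N := Coh.HH X M n)).symm.surjective z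
    induction z using Finsupp.induction_linear with
    | zero => simp only [map_zero]
    | add x y hx hy => simp only [map_add, hx, hy]
    | single i x =>
      have hs : (TensorProduct.equivFinsuppOfBasisLeft b).symm (Finsupp.single i x) = b i ⊗ₜ[k] x := by
        refine (LinearEquiv.symm_apply_eq _).2 ?_
        rw [TensorProduct.equivFinsuppOfBasisLeft_apply_tmul, b.repr_self, Finsupp.mapRange_single, one_smul]
      have he : e (b i ⊗ₜ[k] x) = Finsupp.single i (hhExt M n x) := by
        rw [← hs]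
        simp [e]
      rw [hs, he, fam_single]
      show η.liftBaseChange k' (b i ⊗ₜ[k] x) = _
      rw [LinearMap.liftBaseChange_tmul]
      exact (hTact (b i) _).symm.trans (congrArg T (mp_comp _ _ n ⊤ _).symm)
  refine ⟨LinearEquiv.ofBijective Φ ?_⟩
  rw [show (Φ : _ → _) = T ∘ fam (fun i => psi (k := k) X k' M (b i)) n ⊤ ∘ e from funext key]
  exact T.bijective.comp ((bijective_fam_bc (k := k) X k' M hM b n).comp e.bijective)

theorem euler_bc [CompactSpace X] [QuasiSeparatedSpace X] (hM : Coh.IsQCoh M) :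
    @Curv2.euler k' _ (Curv2.bc k X k') ⟨Curv2.bcSnd k X k'⟩ (M' (k := k) X k' M) = Curv2.euler k X M := by
  letI : (Curv2.bc k X k').Over (Spec (CommRingCat.of k')) := ⟨Curv2.bcSnd k X k'⟩
  exact finsum_congr fun n => by
    rw [← (nonempty_HH_bc (k := k) X k' M hM n).some.finrank_eq, Module.finrank_baseChange]

end Groth.Agent.CohBC18
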