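import Groth.Agent.Lib.CohFound.Qcqs
import Mathlib.Data.Finsupp.SMul
import Mathlib.Algebra.BigOperators.Finsupp.Basic

/-!
# Families of maps of sheaves inducing bijections on cohomology

For maps `ψ i : F ⟶ G`, the map `(xᵢ) ↦ ∑ ψᵢ xᵢ` from `⊕ᵢ Hⁿ(U, F)` to `Hⁿ(U, G)` is bijective on all
quasi-compact opens as soon as it is so on the affine ones.
-/

set_option autoImplicit false
set_option backward.isDefEq.respectTransparency false

universe u

open CategoryTheory TopologicalSpace Opposite CategoryTheory.Limits AlgebraicGeometry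

namespace Groth.Agent.CohBC18

open Groth.Agent.CohFound

section Top

variable {X : TopCat.{u}} {F G : CohTop.Ab X} {B : Type u} (ψ : B → (F ⟶ G))

/-- `(xᵢ) ↦ ∑ ψᵢ xᵢ`. -/
noncomputable def fam (n : ℕ) (U : Opens X) : (B →₀ Hc F n U) →+ Hc G n U :=
  Finsupp.liftAddHom fun i => mp (ψ i) n U

theorem fam_single (n : ℕ) (U : Opens X) (i : B) (x : Hc F n U) :
    fam ψ n U (Finsupp.single i x) = mp (ψ i) n U x :=
  Finsupp.liftAddHom_apply_single _ _ _

theorem fam_rs (n : ℕ) {U V : Opens X} (h : V ≤ U) (x : B →₀ Hc F n U) :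
    fam ψ n V (x.mapRange (rs F n h) (map_zero _)) = rs G n h (fam ψ n U x) := by
  induction x using Finsupp.induction_linear with
  | zero => simp
  | add x y hx hy => simp only [Finsupp.mapRange_add (map_add _), map_add, hx, hy]
  | single i x => rw [Finsupp.mapRange_single, fam_single, fam_single, mp_rs]

theorem fam_mvδ (n : ℕ) (U V : Opens X) (x : B →₀ Hc F n (U ⊓ V)) :
    fam ψ (n + 1) (U ⊔ V) (x.mapRange (mvδ U V F n) (map_zero _)) = mvδ U V G n (fam ψ n (U ⊓ V) x) := by
  induction x using Finsupp.induction_linear with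
  | zero => simp
  | add x y hx hy => simp only [Finsupp.mapRange_add (map_add _), map_add, hx, hy]
  | single i x => rw [Finsupp.mapRange_single, fam_single, fam_single, mp_mvδ]

/-- Finsupps valued in `Q` lift along maps hitting all their values. -/
theorem exists_mapRange_eq {P Q : Type u} [AddCommGroup P] [AddCommGroup Q] (f : P →+ Q) (y : B →₀ Q)
    (h : ∀ i, ∃ p, f p = y i) : ∃ x : B →₀ P, x.mapRange f (map_zero f) = y := by
  classical
  choose g hg using h
  refine ⟨Finsupp.onFinset y.support (fun i => if y i = 0 then 0 else g i) fun i hi => ?_, ?_⟩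
  · exact Finsupp.mem_support_iff.2 fun h => hi (if_pos h)
  · ext i
    simp only [Finsupp.mapRange_apply, Finsupp.onFinset_apply]
    split_ifs with h
    · rw [map_zero, h]
    · exact hg i

/-- The Mayer–Vietoris step. -/
theorem bijective_fam_sup {U V : Opens X} (hU : ∀ n, Function.Bijective (fam ψ n U))
    (hV : ∀ n, Function.Bijective (fam ψ n V)) (hI : ∀ n, Function.Bijective (fam ψ n (U ⊓ V))) (n : ℕ) :
    Function.Bijective (fam ψ n (U ⊔ V)) := by
  classical
  refine ⟨(injective_iff_map_eq_zero _).2 fun x hx => ?_, fun y => ?_⟩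
  · have hxU : x.mapRange (rs F n (le_sup_left : U ≤ U ⊔ V)) (map_zero _) = 0 :=
      (hU n).1 (by rw [fam_rs, hx, map_zero, map_zero])
    have hxV : x.mapRange (rs F n (le_sup_right : V ≤ U ⊔ V)) (map_zero _) = 0 :=
      (hV n).1 (by rw [fam_rs, hx, map_zero, map_zero])
    have hxU' : ∀ i, rs F n (le_sup_left : U ≤ U ⊔ V) (x i) = 0 := fun i => DFunLike.congr_fun hxU i
    have hxV' : ∀ i, rs F n (le_sup_right : V ≤ U ⊔ V) (x i) = 0 := fun i => DFunLike.congr_fun hxV i
    cases n with
    | zero =>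
      refine Finsupp.ext fun i => (hc0 F _).injective ?_
      rw [Finsupp.zero_apply, map_zero]
      have e1 : F.obj.map (homOfLE (le_sup_left : U ≤ U ⊔ V)).op (hc0 F _ (x i)) = 0 := by
        rw [← hc0_rs, hxU', map_zero]
      have e2 : F.obj.map (homOfLE (le_sup_right : V ≤ U ⊔ V)).op (hc0 F _ (x i)) = 0 := by
        rw [← hc0_rs, hxV', map_zero]
      exact TopCat.Sheaf.eq_of_locally_eq₂ F
        (homOfLE le_sup_left) (homOfLE le_sup_right) le_rfl _ _ (e1.trans (map_zero _).symm)
        (e2.trans (map_zero _).symm)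
    | succ m =>
      obtain ⟨z, rfl⟩ := exists_mapRange_eq (mvδ U V F m) x fun i => mv_exact (x i) (hxU' i) (hxV' i)
      rw [fam_mvδ] at hx
      obtain ⟨a, b, hab⟩ := mv_diff _ hx
      obtain ⟨a, rfl⟩ := (hU m).2 a
      obtain ⟨b, rfl⟩ := (hV m).2 b
      rw [← fam_rs, ← fam_rs, ← map_sub] at hab
      obtain rfl := (hI m).1 hab
      ext i
      rw [Finsupp.mapRange_apply, Finsupp.zero_apply, Finsupp.sub_apply, Finsupp.mapRange_apply,
        Finsupp.mapRange_apply, mvδ_sub]
  · obtain ⟨xU, hxU⟩ := (hU n).2 (rs G n le_sup_left y)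
    obtain ⟨xV, hxV⟩ := (hV n).2 (rs G n le_sup_right y)
    have h : xU.mapRange (rs F n (inf_le_left : U ⊓ V ≤ U)) (map_zero _) =
        xV.mapRange (rs F n (inf_le_right : U ⊓ V ≤ V)) (map_zero _) :=
      (hI n).1 (by rw [fam_rs, fam_rs, hxU, hxV, rs_rs, rs_rs])
    choose g hgU hgV using fun i => mv_glue (xU i) (xV i) (DFunLike.congr_fun h i)
    let x : B →₀ Hc F n (U ⊔ V) :=
      Finsupp.onFinset (xU.support ∪ xV.support) (fun i => if xU i = 0 ∧ xV i = 0 then 0 else g i) fun i hi => by
        by_contra hni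
        rw [Finset.mem_union, not_or, Finsupp.notMem_support_iff, Finsupp.notMem_support_iff] at hni
        exact hi (if_pos hni)
    have hU' : x.mapRange (rs F n (le_sup_left : U ≤ U ⊔ V)) (map_zero _) = xU := by
      ext i
      simp only [x, Finsupp.mapRange_apply, Finsupp.onFinset_apply]
      split_ifs with h
      · rw [map_zero, h.1]
      · exact hgU i
    have hV' : x.mapRange (rs F n (le_sup_right : V ≤ U ⊔ V)) (map_zero _) = xV := by
      ext i
      simp only [x, Finsupp.mapRange_apply, Finsupp.onFinset_apply]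
      split_ifs with h
      · rw [map_zero, h.2]
      · exact hgV i
    have e1 : rs G n (le_sup_left : U ≤ U ⊔ V) (y - fam ψ n _ x) = 0 := by
      rw [map_sub, ← fam_rs, hU', hxU, sub_self]
    have e2 : rs G n (le_sup_right : V ≤ U ⊔ V) (y - fam ψ n _ x) = 0 := by
      rw [map_sub, ← fam_rs, hV', hxV, sub_self]
    cases n with
    | zero =>
      refine ⟨x, (sub_eq_zero.1 ((hc0 G _).injective ?_)).symm⟩
      rw [map_zero]
      have e1' : G.obj.map (homOfLE (le_sup_left : U ≤ U ⊔ V)).op (hc0 G _ (y - fam ψ 0 _ x)) = 0 := by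
        rw [← hc0_rs, e1, map_zero]
      have e2' : G.obj.map (homOfLE (le_sup_right : V ≤ U ⊔ V)).op (hc0 G _ (y - fam ψ 0 _ x)) = 0 := by
        rw [← hc0_rs, e2, map_zero]
      exact TopCat.Sheaf.eq_of_locally_eq₂ G
        (homOfLE le_sup_left) (homOfLE le_sup_right) le_rfl _ _ (e1'.trans (map_zero _).symm)
        (e2'.trans (map_zero _).symm)
    | succ m =>
      obtain ⟨w, hw⟩ := mv_exact _ e1 e2
      obtain ⟨w, rfl⟩ := (hI m).2 w
      refine ⟨x + w.mapRange (mvδ U V F m) (map_zero _), ?_⟩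
      rw [map_add, fam_mvδ, hw]
      exact add_sub_cancel _ _

end Top

variable {X : Scheme.{u}} {F G : CohTop.Ab (sp X)} {B : Type u} (ψ : B → (F ⟶ G))

/-- Bijectivity on affine opens gives bijectivity on quasi-compact opens. -/
theorem bijective_fam [QuasiSeparatedSpace X]
    (h : ∀ U : X.Opens, IsAffineOpen U → ∀ n, Function.Bijective (fam ψ n U))
    {U : X.Opens} (hU : IsCompact (U : Set X)) : ∀ n, Function.Bijective (fam ψ n U) :=
  qcqs_induction (P := fun U => ∀ n, Function.Bijective (fam ψ n U)) h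
    (fun _ _ _ _ hA hB hI => bijective_fam_sup ψ hA hB hI) hU

end Groth.Agent.CohBC18
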